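import Groth.Agent.Lib.Cube.Pic
import Groth.Agent.Lib.InvExt.Transfer

/-!
# Invertible modules along morphisms with `O_S = f_* O_X`
-/

universe u

open CategoryTheory AlgebraicGeometry TopologicalSpace Opposite
open GrothLib.Ample
open GrothLib.InvExt (mres IsGen)

set_option backward.isDefEq.respectTransparency false

noncomputable section

namespace GrothLib.PicDirect26

variable {X S : Scheme.{u}}

theorem exists_gen_of_pullback_ι {L : X.Modules} {U : X.Opens}
    (h : Nonempty ((Scheme.Modules.pullback U.ι).obj L ≅ Coh.structureModule U)) :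
    ∃ e : Γ(L, U), IsGen L U e := by
  obtain ⟨φ⟩ := h
  let ψ : L.restrict U.ι ≅ Coh.structureModule U :=
    (Scheme.Modules.restrictFunctorIsoPullback U.ι).app L ≪≫ φ
  have hg : IsGen (L.restrict U.ι) ⊤ (ψ.inv.app ⊤ (1 : Γ((U : Scheme.{u}), ⊤))) :=
    IsGen.map ψ.inv (InvExt.isGen_one ⊤) fun W _ =>
      (ConcreteCategory.isIso_iff_bijective _).1 (Scheme.Modules.Hom.isIso_iff_isIso_app.1 inferInstance W)
  have hg' := InvExt.isGen_image U.ι L hg
  exact ⟨_, hg'.restrict (W := U) (by rw [Scheme.Opens.ι_image_top])⟩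

theorem appLE_bijective {f : X ⟶ S} (hf : ∀ U : S.Opens, Function.Bijective (f.app U)) (V : S.Opens) :
    Function.Bijective (f.appLE V (f ⁻¹ᵁ V) le_rfl) := by
  rw [← Scheme.Hom.app_eq_appLE]
  exact hf V

theorem triv_of_triv_comap {f : X ⟶ S} (hf : ∀ U : S.Opens, Function.Bijective (f.app U))
    {c : Cocycle S} (h : Cube.Triv (c.comap f)) : Cube.Triv c := by
  obtain ⟨a, ha⟩ := h
  choose b hb using fun i : c.ι => (appLE_bijective hf (⊤ ⊓ c.D i)).2 (a.1 i)
  have hmem : b ∈ c.sect 1 ⊤ := fun i k W hi hk => by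
    refine (appLE_bijective hf W).1 ?_
    rw [map_mul, map_pow, c.appLE_G f i k _ _ le_rfl, appLE_res, appLE_res]
    have e := (c.comap f).sect_spec a i k (W := f ⁻¹ᵁ W) (f.preimage_mono hi) (f.preimage_mono hk)
    rw [← hb i, ← hb k] at e
    erw [res_appLE, res_appLE] at e
    exact e
  refine ⟨⟨b, hmem⟩, c.locus_eq_top_of_isUnit _ fun i => ?_⟩
  have hu : IsUnit (a.1 i) := by
    have h1 := Cube.isUnit_component ha i (le_refl ((c.comap f).D i))
    have h2 := h1.map (res (inf_le_right : ⊤ ⊓ (c.comap f).D i ≤ (c.comap f).D i))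
    rwa [res_res, res_self] at h2
  have hu' : IsUnit ((f.appLE (⊤ ⊓ c.D i) (f ⁻¹ᵁ (⊤ ⊓ c.D i)) le_rfl).hom (b i)) :=
    (congrArg IsUnit (hb i)).mpr hu
  let E : Γ(S, ⊤ ⊓ c.D i) ≃+* Γ(X, f ⁻¹ᵁ (⊤ ⊓ c.D i)) :=
    RingEquiv.ofBijective (f.appLE (⊤ ⊓ c.D i) (f ⁻¹ᵁ (⊤ ⊓ c.D i)) le_rfl).hom (appLE_bijective hf _)
  have h3 : IsUnit (E.symm (E (b i))) := hu'.map E.symm
  rwa [E.symm_apply_apply] at h3

theorem exists_base_of_local {f : X ⟶ S} (hf : ∀ U : S.Opens, Function.Bijective (f.app U))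
    (L : X.Modules)
    (hloc : ∀ s : S, ∃ U : S.Opens, s ∈ U ∧ ∃ e : Γ(L, f ⁻¹ᵁ U), IsGen L (f ⁻¹ᵁ U) e) :
    ∃ N : S.Modules, PicF.IsInvertible N ∧ Nonempty (L ≅ (Scheme.Modules.pullback f).obj N) := by
  choose U hU e he using hloc
  choose a ha using fun s t : S =>
    (he s).exists_smul_eq (f.preimage_mono (inf_le_left : U s ⊓ U t ≤ U s))
      (mres L (f.preimage_mono (inf_le_right : U s ⊓ U t ≤ U t)) (e t))
  choose g hg using fun s t : S => (appLE_bijective hf (U s ⊓ U t)).2 (a s t)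
  have key : ∀ (s t : S) (V : S.Opens) (hs : V ≤ U s) (ht : V ≤ U t),
      mres L (f.preimage_mono ht) (e t) =
        (f.appLE V (f ⁻¹ᵁ V) le_rfl).hom (res (le_inf hs ht) (g s t)) • mres L (f.preimage_mono hs) (e s) := by
    intro s t V hs ht
    have h := congrArg (mres L (f.preimage_mono (le_inf hs ht : V ≤ U s ⊓ U t))) (ha s t)
    rw [InvExt.mres_mres, InvExt.mres_smul, InvExt.mres_mres, ← hg s t] at h
    rw [appLE_res]
    refine h.trans (congrArg (fun r : Γ(X, f ⁻¹ᵁ V) => r • mres L (f.preimage_mono hs) (e s)) ?_)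
    exact res_appLE f _ _ _
  let c : Cocycle S :=
    { ι := S
      D := U
      g := g
      cover := top_le_iff.1 fun s _ => Opens.mem_iSup.2 ⟨s, hU s⟩
      self := fun s W h => by
        refine (appLE_bijective hf W).1 ((he s).smul_left_injective (f.preimage_mono h) ?_)
        rw [← key s s W h h, map_one, one_smul]
      change := fun s t r W hs ht hr => by
        refine (appLE_bijective hf W).1 ((he s).smul_left_injective (f.preimage_mono hs) ?_)
        rw [← key s r W hs hr, map_mul, mul_comm, ← smul_smul, ← key s t W hs ht, ← key t r W ht hr]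
      }
  refine ⟨c.twist 1, c.isInvertible_twist 1, ?_⟩
  obtain ⟨p⟩ := c.nonempty_pullback_twist f 1
  have hm : (c.comap f).IsFamily 1 (M := L) e := fun s t W hs ht => by
    rw [pow_one, c.comap_G f s t hs ht]
    have hle : W ≤ f ⁻¹ᵁ (U s ⊓ U t) := le_inf hs ht
    have h := congrArg (mres L hle) (key s t _ inf_le_left inf_le_right)
    rw [InvExt.mres_mres, InvExt.mres_smul, InvExt.mres_mres, res_self] at h
    refine h.trans (congrArg (fun r : Γ(X, W) => r • mres L hs (e s)) ?_)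
    exact res_appLE f _ _ _
  haveI := (c.comap f).isIso_homOfFamily hm he
  exact ⟨(asIso ((c.comap f).homOfFamily hm)).symm ≪≫ p.symm⟩

end GrothLib.PicDirect26
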