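import Groth.Agent.Lib.InvExt.FiniteFibre
import Groth.Agent.Lib.Pushout6.FiniteSet
import Groth.Agent.Lib.SchEffective.AmpleFibres

/-!
# Invertible modules are trivial near finite subsets of affine opens
-/

universe u

open CategoryTheory AlgebraicGeometry TopologicalSpace Opposite
open GrothLib.InvExt (mres IsGen)

namespace GrothLib.PicDirect26

variable {X : Scheme.{u}}

theorem exists_affine_gen_of_finite {L : X.Modules} (hL : PicF.IsInvertible L) {U : X.Opens}
    (hU : IsAffineOpen U) {E : Set X} (hE : E.Finite) (hEU : E ⊆ U) :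
    ∃ W : X.Opens, IsAffineOpen W ∧ E ⊆ W ∧
      Nonempty (L.restrict W.ι ≅ Coh.structureModule (W : Scheme.{u})) := by
  classical
  let E₀ : Set X := {m | m ∈ E ∧ ∀ b ∈ E, m ⤳ b → b = m}
  have hmax : ∀ a ∈ E, ∃ m ∈ E₀, a ⤳ m := fun a ha => by
    let cand := hE.toFinset.filter fun b => a ⤳ b
    have hane : cand.Nonempty := ⟨a, Finset.mem_filter.2 ⟨hE.mem_toFinset.2 ha, specializes_rfl⟩⟩
    obtain ⟨m, hm, hmin⟩ := cand.exists_min_image (fun b => (hE.toFinset.filter fun c => b ⤳ c).card) hane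
    obtain ⟨hmE, ham⟩ := Finset.mem_filter.1 hm
    refine ⟨m, ⟨hE.mem_toFinset.1 hmE, fun b hb hmb => ?_⟩, ham⟩
    by_contra hne
    have hlt : (hE.toFinset.filter fun c => b ⤳ c).card < (hE.toFinset.filter fun c => m ⤳ c).card := by
      refine Finset.card_lt_card ⟨fun c hc => ?_, fun hsub => ?_⟩
      · obtain ⟨h1, h2⟩ := Finset.mem_filter.1 hc
        exact Finset.mem_filter.2 ⟨h1, hmb.trans h2⟩
      · have := (Finset.mem_filter.1 (hsub (Finset.mem_filter.2 ⟨hmE, specializes_rfl⟩))).2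
        exact hne (this.antisymm hmb).eq
    exact absurd (hmin b (Finset.mem_filter.2 ⟨hE.mem_toFinset.2 hb, ham.trans hmb⟩)) (not_le.2 hlt)
  obtain ⟨W, s, hW, hs⟩ := InvExt.exists_gen_nhd_of_finite hL hU E₀ (hE.subset fun _ h => h.1)
    (fun _ h => hEU h.1) fun a ha b hb hab => (ha.2 b hb.1 hab).symm
  have hEW : E ⊆ W := fun a ha => by
    obtain ⟨m, hm, ham⟩ := hmax a ha
    exact ham.mem_open W.2 (hW hm)
  obtain ⟨r, hr, hEr⟩ := Pushout6.exists_basicOpen_of_finite hU hE hEU hEW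
  exact ⟨X.basicOpen r, hU.basicOpen r, hEr, InvExt.exists_iso_of_gen (hs.restrict hr)⟩

end GrothLib.PicDirect26
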